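import Cfsg.Agent.SM.Ti.Tool
import Cfsg.Agent.H948.Ppd.NdOdd

/-!
# S3570, tight cores, `PΩ_{2l+1}(K)`: the two kills (helper53, `notes/SM/ti.md`)

* `triv` : a central involution acts trivially in odd dimension;
* `kill3`, `kill4` : `(l, k) = (3, 2)`, `n = 13` and `(l, k) = (4, 4)`, `n = 17`;
* `nd_last` : `SL₂` at the last node kills `-1`.
-/

set_option autoImplicit false
set_option linter.unusedSectionVars false

namespace Cfsg.Agent.SM.Ti.B

open CoxeterSystem Cfsg.Agent.ChevalleyStructure.CoxeterGeom Cfsg.Agent.Tits.Roots Cfsg.Agent.Tits.Core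
  Cfsg.Agent.Tits.Exchange Cfsg.Agent.Nodes.Reps Cfsg.Agent.Nodes.BNOf Cfsg.Agent.Nodes.StabComb
  Cfsg.Agent.Nodes.Bruhat Cfsg.Agent.Nodes.OppDec Cfsg.Agent.Nodes.LeviDec Cfsg.Agent.KFacts.RgdOpp
  Cfsg.Agent.Omega.CR Cfsg.Agent.Omega.FOne.Lift.Sd Cfsg.Agent.H911 Cfsg.Agent.H905.Md
open Cfsg Cfsg.Geo
open Cfsg.Agent.H915.LD
open Cfsg.Agent.H905.DC (co fire cf)
open Cfsg.Agent.H650.Ppd (Nd)
open Cfsg.Agent.H911.SLTwo (U Lo hh ww)
open Cfsg.Agent.H117.Levi (lrk one_le_lrk)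
open Cfsg.Agent.Nodes.TypeC (isCartan A)
open scoped MatrixGroups Matrix

universe u

/-- a central involution acts trivially in odd dimension -/
theorem triv {Y : Type*} [Group Y] {F : Type u} [Field F] {ι : Type} [Fintype ι] [DecidableEq ι] {P : Subgroup (GL ι F)}
    (hC : Core P) {φ : Y →* GL ι F} (hφ : φ.range = P) (hn : Odd (Fintype.card ι)) {z : Y} (hz : z ∈ Subgroup.center Y)
    (h2 : z * z = 1) : φ z = 1 := by
  obtain ⟨c, hc⟩ := hC.absIrred.2 (φ z : Matrix ι ι F) (by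
    rintro _ ⟨g, hg, rfl⟩
    obtain ⟨y, rfl⟩ : g ∈ φ.range := hφ ▸ hg
    show (φ z : Matrix ι ι F) * (φ y : Matrix ι ι F) = (φ y : Matrix ι ι F) * (φ z : Matrix ι ι F)
    rw [← Units.val_mul, ← Units.val_mul, ← map_mul, ← map_mul, Subgroup.mem_center_iff.1 hz])
  obtain ⟨i⟩ := hC.nonempty
  have h3 : c * c = 1 := by
    have h4 : (φ z : Matrix ι ι F) * (φ z : Matrix ι ι F) = 1 := by
      rw [← Units.val_mul, ← map_mul, h2, map_one, Units.val_one]
    rw [hc, smul_mul_smul_comm, one_mul] at h4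
    simpa using congrFun (congrFun h4 i) i
  have h4 : (φ z : Matrix ι ι F).det = 1 := congrArg Units.val (hC.det (g := φ z) (hφ ▸ ⟨z, rfl⟩))
  obtain ⟨k, hk⟩ := hn
  rw [hc, Matrix.det_smul, Matrix.det_one, mul_one, hk, pow_succ, pow_mul, pow_two, h3, one_pow, one_mul] at h4
  exact Units.ext (by rw [hc, h4, one_smul, Units.val_one])

theorem hh_sq {E : Type*} [Field E] : (hh (-1) * hh (-1) : SL(2, E)) = 1 := by
  refine Subtype.ext ?_
  rw [Matrix.SpecialLinearGroup.coe_mul]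
  ext i j
  fin_cases i <;> fin_cases j <;> simp [hh, Matrix.mul_apply, Fin.sum_univ_two]

/-- the vertices of the spin module of `B₄` modulo the last node -/
def L4 : Fin 8 → List (Fin 4) :=
  ![[], [3, 2], [3, 2, 1], [3, 2, 1, 0], [3, 2, 1, 3, 2], [3, 2, 1, 0, 3, 2], [3, 2, 1, 0, 3, 2, 1], [3, 2, 1, 0, 3, 2, 1, 3, 2]]

section

variable {l : ℕ} {W Y : Type*} [Group W] [Group Y] {cs : CoxeterSystem (CoxeterMatrix.B l) W} {p : ℕ} {T : Subgroup Y}
  {nn : Fin l → Y} {X : (Fin l → ℤ) → Subgroup Y} (R : RGD cs (isCartan l) p T nn X) [Finite Y] [Finite W]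
  [hp : Fact p.Prime] {F : Type u} [Field F] [Finite F] [CharP F p] {ι : Type} [Fintype ι] [DecidableEq ι]
  {P : Subgroup (GL ι F)} (hC : Core P) (hG : GG cs (isCartan l) T X = ⊤) (hT : ∀ s ∈ T, ∀ t ∈ T, s * t = t * s)
  {φ : Y →* GL ι F} (hφ : φ.range = P) {E : Type} [Field E] [Fintype E] [CharP E p] {i : Fin l} {σ : SL(2, E) →* Y}
  (N : Nd T X i σ) (hp2 : p ≠ 2) (hz : σ (hh (-1)) ∈ Subgroup.center Y) (hn : Odd (Fintype.card ι))
include R hC hG hT hφ N hp2 hz hn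

theorem three {s : Fin l} (hs : s ∉ Jx cs (isCartan l) X (lin (acRep φ))) {ω : List (Fin l)}
    (h0 : ∀ m, 0 ≤ cf (A l) m ω i) (h1 : cf (A l) s ω i ≠ 0) {g : Y} (hg : Rp cs R.nsys (cs.wordProd ω)⁻¹ g) :
    3 ≤ lrk cs (isCartan l) T X (lin (acRep φ)) {i} g := by
  refine Tool.par R hC hG hT hφ N hp2 hg (Tool.min_word h0) (Tool.moved_word (isCartan l) hs h1) fun v _ => ?_
  have h2 := triv hC hφ hn hz (by rw [← map_mul, hh_sq, map_one])
  rw [mul_assoc, ← Subgroup.mem_center_iff.1 hz, inv_mul_cancel_left, lin_apply, acRep_apply, h2, Units.val_one,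
    Matrix.map_one _ (map_zero _) (map_one _), Matrix.one_mulVec]

end

section

variable {W Y : Type*} [Group W] [Group Y] {p : ℕ} {T : Subgroup Y} [Finite Y] [Finite W]
  [hp : Fact p.Prime] {F : Type u} [Field F] [Finite F] [CharP F p] {ι : Type} [Fintype ι] [DecidableEq ι]
  {P : Subgroup (GL ι F)} {φ : Y →* GL ι F} {E : Type} [Field E] [Fintype E] [CharP E p] {σ : SL(2, E) →* Y}

theorem kill3 {cs : CoxeterSystem (CoxeterMatrix.B 3) W} {nn : Fin 3 → Y} {X : (Fin 3 → ℤ) → Subgroup Y}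
    (R : RGD cs (isCartan 3) p T nn X) (hC : Core P) (hG : GG cs (isCartan 3) T X = ⊤)
    (hT : ∀ s ∈ T, ∀ t ∈ T, s * t = t * s) (hφ : φ.range = P) (N : Nd T X 2 σ) (hp2 : p ≠ 2)
    (hz : σ (hh (-1)) ∈ Subgroup.center Y) (hn : Odd (Fintype.card ι))
    (hs : 1 ∉ Jx cs (isCartan 3) X (lin (acRep φ))) : 16 ≤ Fintype.card ι := by
  have hne := hC.nonempty
  have hchar : CharP (AlgebraicClosure F) p := charP_of_injective_algebraMap (algebraMap F _).injective p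
  have hirr := ac_irr R hG hT hφ hC.absIrred
  choose g hg using fun a : Fin 8 => exists_rp (cs := cs) (hN := R.nsys) (cs.wordProd (H948.Ppd.LW a))⁻¹
  have h1 := Tool.levi_list R hC hG hT hφ 2 [1] (by simpa using hs) H948.Ppd.LW (by decide) (by decide) g hg
  have h2 : ∀ a : Fin 8, 4 ≤ a → 3 ≤ lrk cs (isCartan 3) T X (lin (acRep φ)) {2} (g a) := fun a ha =>
    three R hC hG hT hφ N hp2 hz hn hs (H948.Ppd.LW_nonneg a) (by revert a; decide) (hg a)
  have h3 : ∀ a : Fin 8, 1 ≤ lrk cs (isCartan 3) T X (lin (acRep φ)) {2} (g a) := fun a => one_le_lrk R hirr _ _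
  rw [Fin.sum_univ_eight] at h1
  have := h3 0
  have := h3 1
  have := h3 2
  have := h3 3
  have := h2 4 (by decide)
  have := h2 5 (by decide)
  have := h2 6 (by decide)
  have := h2 7 (by decide)
  omega

theorem kill4 {cs : CoxeterSystem (CoxeterMatrix.B 4) W} {nn : Fin 4 → Y} {X : (Fin 4 → ℤ) → Subgroup Y}
    (R : RGD cs (isCartan 4) p T nn X) (hC : Core P) (hG : GG cs (isCartan 4) T X = ⊤)
    (hT : ∀ s ∈ T, ∀ t ∈ T, s * t = t * s) (hφ : φ.range = P) (N : Nd T X 3 σ) (hp2 : p ≠ 2)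
    (hz : σ (hh (-1)) ∈ Subgroup.center Y) (hn : Odd (Fintype.card ι))
    (hs : 3 ∉ Jx cs (isCartan 4) X (lin (acRep φ))) : 24 ≤ Fintype.card ι := by
  choose g hg using fun a : Fin 8 => exists_rp (cs := cs) (hN := R.nsys) (cs.wordProd (L4 a))⁻¹
  have h1 := Tool.levi_list R hC hG hT hφ 3 [3] (by simpa using hs) L4 (by decide) (by decide) g hg
  have h2 : ∀ a : Fin 8, 3 ≤ lrk cs (isCartan 4) T X (lin (acRep φ)) {3} (g a) := fun a =>
    three R hC hG hT hφ N hp2 hz hn hs (by revert a; decide) (by revert a; decide) (hg a)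
  have h3 := Finset.sum_le_sum fun a (_ : a ∈ Finset.univ) => h2 a
  simp only [Finset.sum_const, Finset.card_univ, Fintype.card_fin, smul_eq_mul] at h3
  omega

end

section last

open QuadraticMap
open Cfsg.Agent.Nodes.Comb Cfsg.Agent.Nodes.WittRoot Cfsg.Agent.Nodes.WittRGD Cfsg.Agent.Nodes.RGDLib
  Cfsg.Agent.Nodes.WittAll Cfsg.Agent.Nodes
open Cfsg.Agent.LieClassical Cfsg.Agent.LieClassical.OrthCore
open Cfsg.Agent.TitsThree Cfsg.Agent.TitsThree.Siegel Cfsg.Agent.TitsThree.SiegelGen Cfsg.Agent.TitsThree.WittFrame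
open Cfsg.Agent.TitsThree.WBridge Cfsg.Agent.TitsThree.FrameCN Cfsg.Agent.TitsThree.KSideO
open Cfsg.Agent.H48.OCross

variable {ι : Type} [Fintype ι] [DecidableEq ι] {F : Type u} [Field F] {Q : QuadraticForm F (ι → F)} {m : ℕ}
  {W : WFrame (PO Q) m} {d : ι → F}

/-- **The last node, odd dimension** (`H948.Ppd.nd_last_odd` with `σ (-1) = 1`). -/
theorem nd_last (h2 : (2 : F) ≠ 0) (hd : Span W d) {G0 : Subgroup ((ι → F) ≃ₗ[F] (ι → F))}
    (hle : ∀ x, WittRoot.rg (toFrame W) x ≤ G0) {i : Fin m} (hi : ¬ (i : ℕ) + 1 < m) :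
    ∃ σ : SL(2, F) →* G0, σ (hh (-1)) = 1 ∧ H948.Ppd.Nd ((Tor (toFrame W) G0).subgroupOf G0)
      (fun x => (WittRoot.rg (toFrame W) x).subgroupOf G0) i σ := by
  have hadm : ∀ t : F, ∃ p : (toFrame W).Adm, p.w = t • d := fun t =>
    ⟨⟨t • d, -Q (t • d), W.V0.smul_mem t hd.mem, rfl⟩, rfl⟩
  have hu : ∀ y, y ∈ WittRoot.rg (toFrame W) (sr i) ↔ ∃ t, phiO (hd.triple h2 i) (U t) = y := by
    intro y
    rw [rg_sr, H61.SUNode.nx_of_not hi, PG_self]
    constructor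
    · rintro ⟨p, rfl⟩
      obtain ⟨t, ht⟩ := hd.span p.w p.ok.1
      exact ⟨t, phiO_up h2 hd i t p ht⟩
    · rintro ⟨t, rfl⟩
      obtain ⟨p, hp⟩ := hadm t
      exact ⟨p, phiO_up h2 hd i t p hp⟩
  have hl : ∀ y, y ∈ WittRoot.rg (toFrame W) (-sr i) ↔ ∃ t, phiO (hd.triple h2 i) (Lo t) = y := by
    intro y
    rw [rg_neg_sr, H61.SUNode.nx_of_not hi, PG_self]
    constructor
    · rintro ⟨p, rfl⟩
      obtain ⟨t, ht⟩ := hd.span p.w p.ok.1
      exact ⟨-t, phiO_lo h2 hd i (-t) p (by rw [_root_.neg_neg]; exact ht)⟩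
    · rintro ⟨t, rfl⟩
      obtain ⟨p, hp⟩ := hadm (-t)
      exact ⟨p, phiO_lo h2 hd i t p hp⟩
  obtain ⟨σ, h1, hσ⟩ := H948.Ppd.exists_nd hle (phiO (hd.triple h2 i)) hu hl (H948.Ppd.phiO_hh h2 hd i)
  refine ⟨σ, Subtype.ext ((h1 _).trans (LinearEquiv.ext fun v => ?_)), hσ⟩
  rw [phiO_apply, linO_apply]
  simp [H911.SLTwo.hh]

end last

end Cfsg.Agent.SM.Ti.B
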