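import Cfsg.Agent.SM.Ti.B.Kill
import Cfsg.Agent.SM.Ti.BC.Bord
import Cfsg.Agent.H948.Ppd.Podd

/-!
# S3570, tight cores, `PΩ_{2l+1}(K)`: the borderline case (helper53, `notes/SM/ti.md`)

* `boxB : BoxB`.
-/

set_option autoImplicit false
set_option linter.unusedSectionVars false
set_option linter.style.haveILetI false

namespace Cfsg.Agent.SM.Ti.B

open CoxeterSystem Cfsg.Agent.ChevalleyStructure.CoxeterGeom Cfsg.Agent.Tits.Roots Cfsg.Agent.Tits.Core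
  Cfsg.Agent.Nodes.Reps Cfsg.Agent.Nodes.BNOf Cfsg.Agent.Nodes.Bruhat Cfsg.Agent.Nodes.RGDLib
open Cfsg.Agent.Nodes Cfsg.Agent.Nodes.WittRoot Cfsg.Agent.Nodes.WittRGD Cfsg.Agent.Nodes.WittAll Cfsg.Agent.Nodes.WittInst
open Cfsg.Agent.Nodes.TypeC (isCartan)
open Cfsg.Agent.TitsThree.Siegel Cfsg.Agent.TitsThree.SiegelGen Cfsg.Agent.TitsThree.WittFrame Cfsg.Agent.TitsThree.FrameCN
  Cfsg.Agent.TitsThree.WBridge Cfsg.Agent.TitsThree.KSideO Cfsg.Agent.TitsThree Cfsg.Agent.TitsThree.StdData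
open Cfsg.Agent.LieClassical Cfsg.Agent.LieClassical.OrthCore Cfsg.Agent.LieClassical.OrthTrans
open Cfsg.Agent.LieClassical.OrthSimple Cfsg.Agent.LieClassical.OrthFinite Cfsg.Agent.LieClassical.OrthForms
open Cfsg.Agent.H915.LD Cfsg.Agent.H911 Cfsg.Agent.H905.Md Cfsg.Agent.H925.Nat Cfsg.Agent.Nodes.RGDLift
open Cfsg.Agent.H156.Ppd (Cov lrep exists_cov)
open Cfsg.Agent.H948.Ppd
open Cfsg.Agent.Omega.CR Cfsg.Agent.Omega.FOne.Lift.Sd
open Cfsg Cfsg.Geo QuadraticMap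
open scoped MatrixGroups Matrix

theorem core {n m p : ℕ} [hp : Fact p.Prime] {F : Type} [Field F] [Finite F] [hFp : CharP F p] {K : Type} [Field K]
    [Fintype K] [hKp : CharP K p] {P : Subgroup (GL (Fin n) F)} (h : Tc m P) {l : ℕ} (hl : 3 ≤ l)
    (hodd : Odd (Fintype.card K)) (hm : Nat.card F ^ m = Fintype.card K ^ (2 * l))
    (e : Soc P ≃* POmega K (quadFormOdd l K)) : Fintype.card K = Nat.card F ∧ l = 4 ∧ n = 16 := by
  have hC := h.core
  have h2 : (2 : K) ≠ 0 := Ring.two_ne_zero fun h3 => by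
    have h4 := FiniteField.even_card_of_char_two h3
    have := Nat.odd_iff.1 hodd
    omega
  have hp2 : p ≠ 2 := by
    rintro rfl
    exact h2 (by exact_mod_cast CharP.cast_eq_zero K 2)
  have hG : Good (oddForm l K) := by
    apply good_of_finite (nondeg_oddForm l K h2)
    rw [Module.finrank_fintype_fun_eq_card, Fintype.card_sum, Fintype.card_sum, Fintype.card_fin,
      Fintype.card_unit]
    omega
  have hp0 : ((embOdd l K).ngt ⟨1, -1 ^ 2, rfl⟩).c ≠ 0 := by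
    change (1 : K)⁻¹ * (-1 ^ 2) ≠ 0
    simp
  have e' := e
  rw [← coe_oddForm] at e'
  have hWf : Finite (CoxeterMatrix.B l).Group := TypeC.finite_W (CoxeterMatrix.B l).toCoxeterSystem
  set M := model (wodd l K) hG ⟨_, hp0⟩ with hM
  have hA : AmbT (toFrame (wodd l K)) p M.I := AmbT.of_amb (amb_O_of_two _ h2) p
  have hperf : commutator ↥M.I = ⊤ := H911.Five.commutator_top hG.E_perfect
  obtain ⟨Y, _, _, f, φ, n₁, C⟩ := exists_covB hC hA hp0 (by omega) hperf e'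
  have hNd : ∀ i, ∃ σ' : SL(2, K) →* M.I, Nd (TB M) (XB M) i σ' := by
    intro i
    by_cases hi : (i : ℕ) + 1 < l
    · exact nd_long hA.rg_le hi
    · exact nd_last_odd h2 (H48.OMult.span_odd K l) hA.rg_le hi
  have hT' : ∀ s ∈ TB M, ∀ t ∈ TB M, s * t = t * s := by
    intro s hs t ht
    exact Subtype.ext (torus_comm hA.V0 (kd_odd h2 l) (hA.iso _ s.2) (hA.iso _ t.2) hs.2 ht.2)
  obtain ⟨hT, hpow⟩ := lift_comm_pow C hp0 hT' (N₀ := Nat.card K) fun i => by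
    obtain ⟨σ', N⟩ := hNd i
    exact ⟨K, inferInstance, inferInstance, inferInstance, σ', N, fun x => by
      rw [Nat.card_eq_fintype_card]; exact FiniteField.pow_card x⟩
  obtain ⟨a, -, ha⟩ := FiniteField.card K p
  rw [← Nat.card_eq_fintype_card] at ha
  obtain ⟨j, hj, hjK⟩ := C.exists_j hC hT (a := a) a.ne_zero (by rw [← ha]; exact hpow)
  rw [← ha] at hjK
  have hGG := gg_eq_top (T := (TB M).comap f) C.gen
  obtain ⟨rfl, h3⟩ := BC.bord_B h C.rgd hGG hT C.range (fun i => by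
    obtain ⟨σ', N'⟩ := hNd i
    obtain ⟨σ, -, N⟩ := lift_nd C hp0 N'
    exact ⟨σ, N.up, N.lo, N.tor⟩) (by omega) hj hjK.symm (by rw [hm, Nat.card_eq_fintype_card])
  rw [pow_one, Nat.card_eq_fintype_card (α := K)] at hjK
  have hlast : ∀ k : Fin l, ¬ (k : ℕ) + 1 < l → ∃ σ : SL(2, K) →* Y, σ (H911.SLTwo.hh (-1)) ∈ Subgroup.center Y ∧
      H650.Ppd.Nd ((TB M).comap f) (fun x => lft p f (XB M x)) k σ := by
    intro k hk
    obtain ⟨σ', h1, N'⟩ := nd_last h2 (H48.OMult.span_odd K l) hA.rg_le hk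
    obtain ⟨σ, h4, N⟩ := lift_nd C hp0 N'
    exact ⟨σ, C.ker ((h4 _).trans h1), N.up, N.lo, N.tor⟩
  rcases h3 with ⟨rfl, rfl, h3⟩ | ⟨rfl, h4, h3, -⟩
  · obtain ⟨σ, hz, N⟩ := hlast 2 (by decide)
    exact absurd (kill3 C.rgd hC hGG hT C.range N hp2 hz (by decide) ((h3 1).2 rfl)) (by decide)
  · obtain ⟨σ, hz, N⟩ := hlast 3 (by decide)
    refine ⟨hjK.symm, rfl, h4.resolve_right ?_⟩
    rintro rfl
    exact absurd (kill4 C.rgd hC hGG hT C.range N hp2 hz (by decide) ((h3 3).2 rfl)) (by decide)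

/-- **[Ti-B]** -/
theorem boxB : BoxB := fun _ _ p _ _ _ _ _ _ _ _ _ _ h _ hl hodd hm ⟨e⟩ => core (p := p) h hl hodd hm e

end Cfsg.Agent.SM.Ti.B
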